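import Groth.Prelude.Def_W4bk4bump814p2PDiff
import Mathlib.RingTheory.WittVector.Teichmuller
import Mathlib.RingTheory.Derivation.Basic
import Mathlib.Algebra.MvPolynomial.PDeriv
import Mathlib.Algebra.MvPolynomial.Derivation
import Mathlib.FieldTheory.Perfect

/-!
# The subsets `Σ^i` of the differentials are the subgroups generated by the `δ_j`, `j < i`
-/

universe u v

open MvPolynomial W4bk4bump814p2

namespace Groth.Agent.SigmaLib

variable (p : ℕ) [hp : Fact p.Prime]

/-- The coordinates of the Witt sum of two Teichmüller representatives. -/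
noncomputable def S (j : ℕ) : MvPolynomial (Fin 2) ℤ :=
  (WittVector.teichmuller p (X 0 : MvPolynomial (Fin 2) ℤ) + WittVector.teichmuller p (X 1)).coeff j

theorem S_zero : S p 0 = X 0 + X 1 := by
  simp [S, WittVector.add_coeff_zero, WittVector.teichmuller_coeff_zero]

theorem ghost (n : ℕ) : ∑ j ∈ Finset.range (n + 1), (C ((p : ℤ) ^ j)) * S p j ^ p ^ (n - j) =
    (X 0 : MvPolynomial (Fin 2) ℤ) ^ p ^ n + X 1 ^ p ^ n := by
  have h := map_add (WittVector.ghostComponent (p := p) (R := MvPolynomial (Fin 2) ℤ) n)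
    (WittVector.teichmuller p (X 0)) (WittVector.teichmuller p (X 1))
  rw [WittVector.ghostComponent_teichmuller, WittVector.ghostComponent_teichmuller,
    WittVector.ghostComponent_apply, wittPolynomial_eq_sum_C_mul_X_pow, map_sum] at h
  rw [← h]
  refine Finset.sum_congr rfl fun j _ => ?_
  simp [S]

theorem deriv_ghost (n : ℕ) (k : Fin 2) :
    ∑ j ∈ Finset.range (n + 1), S p j ^ (p ^ (n - j) - 1) * pderiv k (S p j) =
      (X 0 : MvPolynomial (Fin 2) ℤ) ^ (p ^ n - 1) * pderiv k (X 0) +
        X 1 ^ (p ^ n - 1) * pderiv k (X 1) := by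
  refine mul_left_cancel₀ (a := (C ((p : ℤ) ^ n) : MvPolynomial (Fin 2) ℤ))
    (by simp [hp.out.ne_zero]) ?_
  have h := congrArg (pderiv k) (ghost p n)
  rw [map_sum, map_add] at h
  simp only [Derivation.leibniz_pow, nsmul_eq_mul, smul_eq_mul] at h
  rw [Finset.mul_sum]
  refine Eq.trans ?_ (h.trans ?_)
  · refine Finset.sum_congr rfl fun j hj => ?_
    rw [Derivation.leibniz, pderiv_C, smul_zero, add_zero, Derivation.leibniz_pow]
    simp only [nsmul_eq_mul, smul_eq_mul, map_pow, map_natCast, Nat.cast_pow]
    rw [← Nat.add_sub_cancel' (Nat.lt_succ_iff.1 (Finset.mem_range.1 hj))]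
    simp only [Nat.add_sub_cancel_left]
    rw [pow_add]
    ring
  · simp only [map_pow, map_natCast, Nat.cast_pow]
    ring

variable (K : Type u) (A : Type v) [Field K] [CharP K p] [CommRing A] [Algebra K A]

omit hp [CharP K p] in
theorem map_D (Q : MvPolynomial (Fin 2) ℤ) (a : Fin 2 → A) :
    KaehlerDifferential.D K A (aeval a Q) =
      ∑ k, aeval a (pderiv k Q) • KaehlerDifferential.D K A (a k) := by
  induction Q using MvPolynomial.induction_on with
  | C r => simp
  | add f g hf hg =>
    simp only [map_add, hf, hg, add_smul, Finset.sum_add_distrib]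
  | mul_X f i hf =>
    rw [map_mul, aeval_X, Derivation.leibniz, hf]
    simp only [Derivation.leibniz, pderiv_X, smul_eq_mul, map_add, map_mul, aeval_X, add_smul,
      Finset.sum_add_distrib, Finset.smul_sum, smul_smul]
    congr 1
    rw [Finset.sum_eq_single i]
    · simp
    · intro b _ hb; simp [Pi.single_apply, Ne.symm hb]
    · simp

/-- The subgroup generated by the `δ_j`, `j < i`. -/
noncomputable def T (i : ℕ) : AddSubgroup (Ω[A⁄K]) :=
  AddSubgroup.closure (⋃ j ∈ Finset.range i, Set.range (delta K A p j))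

omit hp [CharP K p] in
theorem delta_mem_T {i j : ℕ} (h : j < i) (x : A) : delta K A p j x ∈ T p K A i :=
  AddSubgroup.subset_closure (Set.mem_biUnion (Finset.mem_range.2 h) ⟨x, rfl⟩)

omit [CharP K p] in
theorem defect_mem_T (i : ℕ) (x y : A) :
    delta K A p i (x + y) - delta K A p i x - delta K A p i y ∈ T p K A i := by
  have key : delta K A p i x + delta K A p i y =
      ∑ j ∈ Finset.range (i + 1), delta K A p (i - j) (aeval ![x, y] (S p j)) := by
    have h : ∀ j, delta K A p (i - j) (aeval ![x, y] (S p j)) =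
        ∑ k, aeval ![x, y] (S p j ^ (p ^ (i - j) - 1) * pderiv k (S p j)) •
          KaehlerDifferential.D K A (![x, y] k) := by
      intro j
      rw [delta, map_D, Finset.smul_sum]
      simp [smul_smul]
    simp only [h]
    rw [Finset.sum_comm]
    simp only [← Finset.sum_smul, ← map_sum, deriv_ghost]
    simp [Fin.sum_univ_two, delta]
  rw [Finset.sum_range_succ'] at key
  rw [sub_sub, key]
  simp only [Nat.sub_zero, S_zero, map_add, aeval_X, Matrix.cons_val_zero, Matrix.cons_val_one]
  rw [sub_add_cancel_right]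
  refine neg_mem (AddSubgroup.sum_mem _ fun j hj => delta_mem_T p K A ?_ _)
  have := Finset.mem_range.1 hj
  omega

omit hp [CharP K p] in
theorem delta_zero' (i : ℕ) : delta K A p i 0 = 0 := by simp [delta]

omit [CharP K p] in
theorem sigma_eq (i : ℕ) : sigma K A p i = (T p K A i : Set (Ω[A⁄K])) := by
  induction i with
  | zero => simp [T, AddSubgroup.closure_empty]
  | succ i ih =>
    have hle : T p K A i ≤ T p K A (i + 1) :=
      AddSubgroup.closure_mono (Set.biUnion_subset_biUnion_left fun j hj =>
        Finset.mem_range.2 (Nat.lt_succ_of_lt (Finset.mem_range.1 hj)))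
    let H : AddSubgroup (Ω[A⁄K]) :=
      { carrier := {ω | ∃ x : A, ω - delta K A p i x ∈ T p K A i}
        zero_mem' := ⟨0, by rw [delta_zero', sub_zero]; exact zero_mem _⟩
        add_mem' := fun {a b} ⟨x, hx⟩ ⟨y, hy⟩ => ⟨x + y, by
          have h3 := sub_mem (add_mem hx hy) (defect_mem_T p K A i x y)
          convert h3 using 1
          abel⟩
        neg_mem' := fun {a} ⟨x, hx⟩ => ⟨-x, by
          have h := defect_mem_T p K A i x (-x)
          rw [add_neg_cancel, delta_zero'] at h
          have h3 := sub_mem h hx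
          convert h3 using 1
          abel⟩ }
    refine le_antisymm (fun ω hω => ?_) (fun ω hω => ?_)
    · rw [mem_sigma_succ] at hω
      obtain ⟨x, hx⟩ := hω
      rw [ih] at hx
      have := add_mem (hle hx) (delta_mem_T p K A i.lt_succ_self x)
      rwa [sub_add_cancel] at this
    · rw [mem_sigma_succ, ih]
      change ω ∈ H
      refine AddSubgroup.closure_le H |>.2 ?_ hω
      intro z hz
      simp only [Set.mem_iUnion, Finset.mem_range] at hz
      obtain ⟨j, hj, x, rfl⟩ := hz
      rcases Nat.lt_succ_iff_lt_or_eq.1 hj with hlt | heq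
      · exact ⟨0, by rw [delta_zero', sub_zero]; exact delta_mem_T p K A hlt x⟩
      · exact ⟨x, by rw [heq, sub_self]; exact zero_mem _⟩

include K in
omit hp in
theorem natCast_p : (p : A) = 0 := by
  rw [← map_natCast (algebraMap K A), CharP.cast_eq_zero, map_zero]

theorem smul_pow_delta {i j : ℕ} (h : j < i) (x a : A) :
    x ^ p ^ i • delta K A p j a = delta K A p j (x ^ p ^ (i - j) * a) := by
  have hD : KaehlerDifferential.D K A (x ^ p ^ (i - j)) = 0 := by
    rw [Derivation.leibniz_pow, ← Nat.cast_smul_eq_nsmul A]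
    rw [Nat.cast_pow, natCast_p p K A, zero_pow (by omega), zero_smul]
  rw [delta, delta, Derivation.leibniz, hD, smul_zero, add_zero, smul_smul, smul_smul, mul_pow]
  congr 1
  rw [mul_right_comm, ← pow_succ, Nat.sub_add_cancel (Nat.one_le_pow _ _ hp.out.pos), ← pow_mul,
    ← pow_add, Nat.sub_add_cancel h.le]

theorem smul_pow_mem (i : ℕ) (x : A) {ω : Ω[A⁄K]} (hω : ω ∈ T p K A i) :
    x ^ p ^ i • ω ∈ T p K A i := by
  induction hω using AddSubgroup.closure_induction with
  | mem z hz =>
    simp only [Set.mem_iUnion, Finset.mem_range] at hz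
    obtain ⟨j, hj, a, rfl⟩ := hz
    rw [smul_pow_delta p K A hj]
    exact delta_mem_T p K A hj _
  | zero => rw [smul_zero]; exact zero_mem _
  | add a b _ _ ha hb => rw [smul_add]; exact add_mem ha hb
  | neg a _ ha => rw [smul_neg]; exact neg_mem ha

omit hp [CharP K p] in
theorem scalar_delta (j : ℕ) (c : K) (a : A) (hq : 0 < p ^ j) :
    c ^ p ^ j • delta K A p j a = delta K A p j (c • a) := by
  rw [delta, delta, Derivation.map_smul, smul_pow, smul_assoc,
    smul_comm (a ^ (p ^ j - 1)) c, smul_smul, ← pow_succ, Nat.sub_add_cancel hq]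

theorem scalar_mem [PerfectField K] (i : ℕ) (c : K) {ω : Ω[A⁄K]} (hω : ω ∈ T p K A i) :
    c • ω ∈ T p K A i := by
  haveI : ExpChar K p := ExpChar.prime hp.out
  haveI : PerfectRing K p := PerfectField.toPerfectRing p
  induction hω using AddSubgroup.closure_induction with
  | mem z hz =>
    simp only [Set.mem_iUnion, Finset.mem_range] at hz
    obtain ⟨j, hj, a, rfl⟩ := hz
    obtain ⟨c', rfl⟩ := (bijective_iterateFrobenius K p j).2 c
    rw [iterateFrobenius_def, scalar_delta p K A j c' a (pow_pos hp.out.pos j)]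
    exact delta_mem_T p K A hj _
  | zero => rw [smul_zero]; exact zero_mem _
  | add a b _ _ ha hb => rw [smul_add]; exact add_mem ha hb
  | neg a _ ha => rw [smul_neg]; exact neg_mem ha

end Groth.Agent.SigmaLib
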